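import Cfsg.Agent.Omega.F4Leaf.Big.OneZ
import Cfsg.Agent.Omega.HT.LineJ

/-!
# LeafF4, `m ≥ 3`, MemH2 over `T₁`, `C_S(n) ≤ T₁ ≤ N(V_l)` (bb OMEGA #20615, #21183): the frame

`n = r_ij`, `V_l = {1, r_ij, r_i0, r_j0}`, `Q_p = O₂(C_G(p))`.

* `line`, `line_le` : the structure `Ln`, `V_l ≤ A`;
* `Part A ε i j` : a partner `A ^ k`, `k ∈ C_G(n)`; `part_pt` : the partner at every point;
* `bt` : the structure `BT`;
* `comm_Q` : `ε x` with `x i = x j` commutes with `O₂(C_G(n))`;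
* `Base T`, `Fr T` : the frames; `Fr` is `Base` with the partner and `T` Sylow in `C_G(n)`.
-/

set_option autoImplicit false
set_option linter.dupNamespace false

namespace Cfsg.Agent.Omega.F4Leaf.TSyl

open Subgroup Pointwise Cfsg Cfsg.Agent Cfsg.Agent.Omega.MinPar
open Cfsg.Agent.ZN (o2 zc zl)
open Cfsg.Agent.Omega.FrameFF (cv)
open Cfsg.Agent.Omega.S5.Def Cfsg.Agent.Omega.S5.Syl Cfsg.Agent.Omega.F4Leaf.Def
open Cfsg.Agent.Omega.F4Leaf.Pos Cfsg.Agent.Omega.F4Leaf.Facts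
open Cfsg.Agent.Omega.NSix.Base Cfsg.Agent.Omega.NSix.Basic Cfsg.Agent.Omega.NSix.FixApp
open Cfsg.Agent.Omega.NSix.RThree (acts_swap')
open Cfsg.Agent.Omega.NSix.Zero (WP mem_WP WP_norm WP_conj)
open Cfsg.Agent.Omega.HT.LineOf (Ln ln pts dd)
open Cfsg.Agent.Omega.BTwo (BT XX)
open Cfsg.Agent.MinSimple.VModule (o2_isPGroup o2_le le_o2 le_normalizer_o2 o2_le_of_sylow mem_zc zc_le
  le_normalizer_zl zl_comm zl_sq)

universe u

variable {G : Type u} [Group G]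

/-- a partner `A ^ k` of `A` in `C_G(r_ij)` -/
def Part {n : ℕ} (A : Subgroup G) (ε : (Fin n → ZMod 2) → G) (i j : Fin n) : Prop :=
  ∃ k ∈ NN ε i j, ∃ v ∈ A, ∃ w ∈ A, v * (k * w * k⁻¹) ≠ k * w * k⁻¹ * v

variable [Finite G] {S : Sylow 2 G} {P : Subgroup G} {m : ℕ} {A : Subgroup G}
  {ε : (Fin (2 ^ m + 1) → ZMod 2) → G}

section sit

variable (h : Sit S P m A ε)
include h

/-- `ε x` with `x i = x j` commutes with `O₂(C_G(r_ij))` -/
theorem comm_Q {i j : Fin (2 ^ m + 1)} (hij : i ≠ j) {x : Fin (2 ^ m + 1) → ZMod 2} (hx : x i = x j) {q : G}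
    (hq : q ∈ o2 (NN ε i j)) : q * ε x = ε x * q := by
  rw [← mul_inv_eq_iff_eq_mul]
  rcases h.acts hij hq with h1 | h1
  · exact h1 x
  · exact (acts_swap' h.split.even h1 x).1 hx

theorem n3 : 3 ≤ 2 ^ m + 1 := h.three

theorem line {i j : Fin (2 ^ m + 1)} (hij : i ≠ j) (hi : i ≠ 0) (hj : j ≠ 0) : Ln (rr ε i j) (rr ε i 0) where
  aa := rr_sq h.split.even i j
  bb := rr_sq h.split.even i 0
  comm := h.split.even.comm_mem (rr_mem h.split.even i j) (rr_mem h.split.even i 0)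
  a1 := rr_ne_one h.split.even h.three hij
  b1 := rr_ne_one h.split.even h.three hi
  ne := fun e => by
    have h1 : rr ε j 0 = 1 := by
      rw [← rr_add h.split.even j i 0, rr_symm h.split.even j i, e, rr_sq h.split.even]
    exact rr_ne_one h.split.even h.three hj h1

theorem dd_two (i j : Fin (2 ^ m + 1)) : rr ε i j * rr ε i 0 = rr ε j 0 := by
  rw [rr_symm h.split.even i j, rr_add h.split.even]

/-- the three points -/
theorem dd_cases {i j : Fin (2 ^ m + 1)} (hij : i ≠ j) (hi : i ≠ 0) (hj : j ≠ 0) (s : Fin 3) :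
    ∃ a b c : Fin (2 ^ m + 1), a ≠ b ∧ a ≠ c ∧ b ≠ c ∧ dd (rr ε i j) (rr ε i 0) s = rr ε a b ∧
      (∃ t, dd (rr ε i j) (rr ε i 0) t = rr ε a c) ∧ (a = i ∨ a = j ∨ a = 0) ∧ (b = i ∨ b = j ∨ b = 0) := by
  fin_cases s
  · exact ⟨i, j, 0, hij, hi, hj, rfl, ⟨1, rfl⟩, Or.inl rfl, Or.inr (Or.inl rfl)⟩
  · exact ⟨i, 0, j, hi, hij, hj.symm, rfl, ⟨0, rfl⟩, Or.inl rfl, Or.inr (Or.inr rfl)⟩
  · exact ⟨j, 0, i, hj, hij.symm, hi.symm, dd_two h i j, ⟨0, rr_symm h.split.even i j⟩, Or.inr (Or.inl rfl),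
      Or.inr (Or.inr rfl)⟩

theorem dd_mem_A {i j : Fin (2 ^ m + 1)} (hij : i ≠ j) (hi : i ≠ 0) (hj : j ≠ 0) (s : Fin 3) :
    dd (rr ε i j) (rr ε i 0) s ∈ A := by
  obtain ⟨a, b, c, -, -, -, e, -⟩ := dd_cases h hij hi hj s
  rw [e]; exact rr_mem h.split.even a b

theorem line_le {i j : Fin (2 ^ m + 1)} (hij : i ≠ j) (hi : i ≠ 0) (hj : j ≠ 0) : ln (line h hij hi hj) ≤ A := by
  rintro x (rfl | ⟨s, rfl⟩)
  · exact one_mem _
  · exact dd_mem_A h hij hi hj s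

/-- the partner at a point -/
theorem part_pt {i j : Fin (2 ^ m + 1)} (hij : i ≠ j) (hP : Part A ε i j) {p q r : Fin (2 ^ m + 1)} (hpq : p ≠ q)
    (hpr : p ≠ r) (hqr : q ≠ r) :
    ∃ k ∈ NN ε p q, Acts ε (k * rr ε p r * k⁻¹) (Equiv.swap p q) := by
  have hE := h.split.even
  obtain ⟨k0, hk0, v0, hv0, w0, hw0, hne0⟩ := hP
  obtain ⟨σ, e1, e2, -⟩ := exists_perm hij hpq
  obtain ⟨g, hgP, hg⟩ := hE.full σ
  have hgA := acts_norm hE hg
  obtain ⟨k, hk⟩ : ∃ k, k = g * k0 * g⁻¹ := ⟨_, rfl⟩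
  obtain ⟨w, hw⟩ : ∃ w, w = g * w0 * g⁻¹ := ⟨_, rfl⟩
  have hkN : k ∈ NN ε p q := by
    have := conj_NN hg hk0
    rwa [e1, e2, ← hk] at this
  have hwA : w ∈ A := by
    rw [hw]; exact (mem_normalizer_iff.1 hgA w0).1 hw0
  obtain ⟨x, rfl⟩ := hE.surj w hwA
  have hvA : g * v0 * g⁻¹ ∈ A := (mem_normalizer_iff.1 hgA v0).1 hv0
  have hne : ¬ k * ε x * k⁻¹ ∈ centralizer (A : Set G) := by
    intro h1
    apply hne0
    have h2 := mem_centralizer_iff.1 h1 _ hvA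
    rw [hk, hw] at h2
    have h3 : g * (v0 * (k0 * w0 * k0⁻¹)) * g⁻¹ = g * (k0 * w0 * k0⁻¹ * v0) * g⁻¹ := by
      calc g * (v0 * (k0 * w0 * k0⁻¹)) * g⁻¹
          = g * v0 * g⁻¹ * (g * k0 * g⁻¹ * (g * w0 * g⁻¹) * (g * k0 * g⁻¹)⁻¹) := by group
        _ = g * k0 * g⁻¹ * (g * w0 * g⁻¹) * (g * k0 * g⁻¹)⁻¹ * (g * v0 * g⁻¹) := h2
        _ = g * (k0 * w0 * k0⁻¹ * v0) * g⁻¹ := by group
    exact mul_left_cancel (mul_right_cancel h3)
  have hQ : ∀ a ∈ A, k * a * k⁻¹ ∈ o2 (NN ε p q) := fun a ha =>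
    (mem_normalizer_iff.1 (le_normalizer_o2 _ hkN) a).1 (h.V_le hpq (h.split.A_le ha))
  have hact := (h.acts hpq (hQ _ hwA)).resolve_left fun h1 => hne (hE.acts_one_iff.1 h1)
  have hcen : ∀ y : Fin (2 ^ m + 1) → ZMod 2, y p = y q → k * ε y * k⁻¹ ∈ centralizer (A : Set G) := by
    intro y hy
    rw [mem_centralizer_iff]
    intro a ha
    have hak : k⁻¹ * a * k ∈ o2 (NN ε p q) := by
      have := (mem_normalizer_iff.1 (le_normalizer_o2 _ (inv_mem hkN)) a).1 (h.V_le hpq (h.split.A_le ha))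
      rwa [inv_inv] at this
    have h1 := comm_Q h hpq hy hak
    calc a * (k * ε y * k⁻¹) = k * (k⁻¹ * a * k * ε y) * k⁻¹ := by group
      _ = k * (ε y * (k⁻¹ * a * k)) * k⁻¹ := by rw [h1]
      _ = k * ε y * k⁻¹ * a := by group
  have hx : x p ≠ x q := fun h1 => hne (hcen x h1)
  have hr : rr ε p r = ε (Pi.single p 1 + Pi.single r 1) := by rw [hE.add]; rfl
  refine ⟨k, hkN, ?_⟩
  have hz2 : ∀ a b c d : ZMod 2, a ≠ b → c ≠ d → a + c = b + d := by decide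
  have h1 : k * ε (x + (Pi.single p 1 + Pi.single r 1)) * k⁻¹ ∈ centralizer (A : Set G) := by
    refine hcen _ ?_
    refine hz2 _ _ _ _ hx ?_
    rw [Pi.add_apply, Pi.add_apply, Pi.single_eq_same, Pi.single_eq_of_ne hpr, Pi.single_eq_of_ne hpq.symm,
      Pi.single_eq_of_ne hqr]
    decide
  have h2 := hact.mul (hE.acts_one_iff.2 h1)
  rw [mul_one] at h2
  have e : k * ε x * k⁻¹ * (k * ε (x + (Pi.single p 1 + Pi.single r 1)) * k⁻¹) = k * rr ε p r * k⁻¹ := by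
    rw [hr, hE.add]
    calc k * ε x * k⁻¹ * (k * (ε x * ε (Pi.single p 1 + Pi.single r 1)) * k⁻¹)
        = k * (ε x * ε x) * ε (Pi.single p 1 + Pi.single r 1) * k⁻¹ := by group
      _ = _ := by rw [hE.sq, mul_one]
  rwa [e] at h2

/-- some `WP` moves `A` -/
theorem mov_of_part {i j : Fin (2 ^ m + 1)} (hij : i ≠ j) (hP : Part A ε i j) :
    ∃ i j, i ≠ j ∧ ∃ g ∈ WP ε i j, ¬ g ∈ centralizer (A : Set G) := by
  have hE := h.split.even
  obtain ⟨k, hk, v, hv, w, hw, hne⟩ := hP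
  refine ⟨i, j, hij, k * w * k⁻¹, WP_norm hk (h.fac.mem_wp hij hw), fun h1 => hne ?_⟩
  exact mem_centralizer_iff.1 h1 v hv

/-- the structure `BT` -/
theorem bt {i j : Fin (2 ^ m + 1)} (hij : i ≠ j) (hi : i ≠ 0) (hj : j ≠ 0) (hP : Part A ε i j) :
    BT (ln (line h hij hi hj)) (pts (rr ε i j) (rr ε i 0)) := by
  have hE := h.split.even
  refine (line h hij hi hj).bt (fun s => ?_) (fun s g hg t => ?_) (fun s => ?_)
  · obtain ⟨a, b, c, hab, -, -, e, -⟩ := dd_cases h hij hi hj s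
    rw [e]
    exact (line_le h hij hi hj).trans (h.split.A_le.trans (h.V_le hab))
  · obtain ⟨a, b, c, hab, -, -, e, -⟩ := dd_cases h hij hi hj s
    rw [e] at hg
    rw [(line h hij hi hj).mem_pts, e]
    have ht := dd_mem_A h hij hi hj t
    rcases h.conj_V hab hg (h.split.A_le ht) with h1 | h1
    · left; rw [h1, mul_inv_cancel]
    · right
      rw [h1, hE.comm_mem ht (rr_mem hE a b), mul_inv_cancel_right]
  · obtain ⟨a, b, c, hab, hac, hbc, e, ⟨t, ht⟩, -⟩ := dd_cases h hij hi hj s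
    obtain ⟨k, hk, hkA⟩ := part_pt h hij hP hab hac hbc
    refine ⟨k, by rw [e]; exact hk, t, t, fun h4 => ?_⟩
    rw [ht] at h4
    have hr : rr ε a c = ε (Pi.single a 1 + Pi.single c 1) := by rw [hE.add]; rfl
    have h5 := (acts_swap' hE hkA (Pi.single a 1 + Pi.single c 1)).2 (by
      rw [Pi.add_apply, Pi.add_apply, Pi.single_eq_same, Pi.single_eq_of_ne hac, Pi.single_eq_of_ne hab.symm,
        Pi.single_eq_of_ne hbc]
      decide)
    rw [← hr, h4, mul_inv_cancel_right] at h5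
    exact rr_ne_one hE h.three hab (left_eq_mul.1 h5)

end sit

/-- the frame without partner: a 2-group `T` with `C_S(n) ≤ T ≤ C_G(n) ∩ N(V_l)` -/
structure Base (S : Sylow 2 G) (P : Subgroup G) (m : ℕ) (A : Subgroup G)
    (ε : (Fin (2 ^ m + 1) → ZMod 2) → G) (i j : Fin (2 ^ m + 1)) (T : Subgroup G) : Prop where
  sit : Sit S P m A ε
  m3 : 3 ≤ m
  ij : i ≠ j
  i0 : i ≠ 0
  j0 : j ≠ 0
  duad : ∃ s ∈ (S : Subgroup G), Acts ε s (Equiv.swap i j)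
  mov : ∃ i j, i ≠ j ∧ ∃ g ∈ WP ε i j, ¬ g ∈ centralizer (A : Set G)
  le : (S : Subgroup G) ⊓ NN ε i j ≤ T
  leN : T ≤ NN ε i j
  nrm : T ≤ normalizer (ln (line sit ij i0 j0) : Set G)
  p : IsPGroup 2 T

/-- the frame with partner, `T` Sylow in `C_G(n)` -/
structure Fr (S : Sylow 2 G) (P : Subgroup G) (m : ℕ) (A : Subgroup G)
    (ε : (Fin (2 ^ m + 1) → ZMod 2) → G) (i j : Fin (2 ^ m + 1)) (T : Subgroup G) : Prop extends
    Base S P m A ε i j T where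
  part : Part A ε i j
  odd : ¬ 2 ∣ T.relIndex (NN ε i j)

end Cfsg.Agent.Omega.F4Leaf.TSyl
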