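import Cfsg.Agent.Omega.F4Leaf.Pos
import Cfsg.Agent.Omega.NSix.TkPair
import Cfsg.Agent.Omega.HT.Sig
import Cfsg.Agent.Omega.HT.EndY

/-!
# LeafF4, `m ≥ 3` (MemH2), `T` Sylow in `C_G(n)`: the `Σ`-step and the `Y`-step

`n = r_ij`, `i, j ≠ 0`, `V_l = {1, r_ij, r_i0, r_j0}`.

* `sig` : `Sig V_l R o c` with `c ∈ V` centralised by elements acting as `(i j)` and `(i 0)` implies
  `c = v z_0 r_ij` with `v ∈ V₀`;
* `yv` : `V_l` centralises `⟨r_ij ^ C(c r_ij)⟩` for this `c`  (`m ≥ 3`).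
-/

set_option autoImplicit false
set_option linter.unusedSectionVars false

namespace Cfsg.Agent.Omega.F4Leaf.TSyl.Sg

open Subgroup Cfsg Cfsg.Agent
open Cfsg.Agent.ZN (o2 zc zl)
open Cfsg.Agent.Omega.FrameFF (cv)
open Cfsg.Agent.Omega.S5.Def Cfsg.Agent.Omega.F4Leaf.Def Cfsg.Agent.Omega.F4Leaf.Pos
open Cfsg.Agent.Omega.NSix.Base Cfsg.Agent.Omega.NSix.Basic Cfsg.Agent.Omega.NSix.FixApp
open Cfsg.Agent.Omega.NSix.TkPair (rr_eq rr_ne)
open Cfsg.Agent.Omega.HTwo.Hat (ZQ)

universe u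

variable {G : Type u} [Group G] [Finite G] {S : Sylow 2 G} {P : Subgroup G} {m : ℕ} {A : Subgroup G}
  {ε : (Fin (2 ^ m + 1) → ZMod 2) → G} (h : Sit S P m A ε)
include h

theorem five : 5 ≤ 2 ^ m + 1 := by
  have h1 : 2 ^ 2 ≤ 2 ^ m := Nat.pow_le_pow_right (by norm_num) h.m2
  omega

/-- a coordinate outside of three given ones -/
theorem exists_ne (a b c : Fin (2 ^ m + 1)) : ∃ k, k ≠ a ∧ k ≠ b ∧ k ≠ c := by
  have hcard : ({a, b, c} : Finset (Fin (2 ^ m + 1))).card < (Finset.univ : Finset (Fin (2 ^ m + 1))).card := by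
    rw [Finset.card_univ, Fintype.card_fin]
    have := five h
    exact lt_of_le_of_lt Finset.card_le_three (by omega)
  obtain ⟨k, -, hk⟩ := Finset.exists_mem_notMem_of_card_lt_card hcard
  simp only [Finset.mem_insert, Finset.mem_singleton, not_or] at hk
  exact ⟨k, hk⟩

/-- `ε x` is fixed by a transposition `(a b)` only if `x a = x b` -/
theorem eq_of_fix {a b : Fin (2 ^ m + 1)} {t : G} (ht : Acts ε t (Equiv.swap a b)) {x : Fin (2 ^ m + 1) → ZMod 2}
    (hx : t * ε x = ε x * t) : x a = x b := by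
  have h1 : ε (x ∘ (Equiv.swap a b : Equiv.Perm _).symm) = ε x := by
    rw [← ht x, hx, mul_inv_cancel_right]
  rcases h.split.even.eq_iff.1 h1 with h2 | h2
  · have h3 := congrFun h2 b
    simpa using h3
  · exfalso
    obtain ⟨k, hka, hkb, -⟩ := exists_ne h a b a
    have h3 := congrFun h2 k
    rw [Function.comp_apply, Equiv.symm_swap, Equiv.swap_apply_of_ne_of_ne hka hkb, Pi.add_apply, Pi.one_apply] at h3
    have h4 : x k + 0 = x k + 1 := by rw [add_zero]; exact h3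
    exact zero_ne_one (add_left_cancel h4)

/-- **the `Σ`-step** -/
theorem sig {i j : Fin (2 ^ m + 1)} (hij : i ≠ j) (hi0 : i ≠ 0) (hj0 : j ≠ 0) {ι : Type*} {V : Subgroup G}
    {R : ι → Subgroup G} {o : ι} (hR : ∀ x, x ∈ R o ↔ x = 1 ∨ x = rr ε i j) (hV0 : rr ε i 0 ∈ V)
    (hV : ∀ v ∈ V, v = 1 ∨ v = rr ε i j ∨ v = rr ε i 0 ∨ v = rr ε j 0) (hZQ : ∀ v ∈ Vn ε i j, v ∈ ZQ R o)
    {c t x : G} (hcV : c ∈ zl (S : Subgroup G) P) (htP : t ∈ P) (ht : Acts ε t (Equiv.swap i j)) (htc : t * c = c * t)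
    (hxP : x ∈ P) (hx : Acts ε x (Equiv.swap i 0)) (hxc : x * c = c * x) (hs : HT.Sig V R o c) :
    ∃ v ∈ cv (S : Subgroup G) P, c = v * zz ε 0 * rr ε i j := by
  have hE := h.split.even
  have h5 := five h
  have h11 : (1 : ZMod 2) + 1 = 0 := by decide
  obtain ⟨v, hv, a, ha, hc⟩ := h.mul_eq hcV
  have hvc : ∀ g ∈ P, g * v = v * g := fun g hg => h.V0_comm hv hg
  obtain ⟨y, hy, hy0⟩ : ∃ y, ε y = a ∧ y 0 = 1 := by
    obtain ⟨y, rfl⟩ := hE.surj a ha
    rcases (show ∀ b : ZMod 2, b = 0 ∨ b = 1 by decide) (y 0) with h0 | h0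
    · refine ⟨y + 1, hE.eq_iff.2 (Or.inr rfl), ?_⟩
      rw [Pi.add_apply, h0, zero_add, Pi.one_apply]
    · exact ⟨y, rfl, h0⟩
  have hcom : ∀ g ∈ P, g * c = c * g → g * ε y = ε y * g := by
    intro g hg hgc
    rw [hc, ← hy] at hgc
    have h1 := hvc g hg
    calc g * ε y = v⁻¹ * (v * g) * ε y := by group
      _ = v⁻¹ * (g * v) * ε y := by rw [h1]
      _ = v⁻¹ * (g * (v * ε y)) := by group
      _ = v⁻¹ * (v * ε y * g) := by rw [hgc]
      _ = ε y * g := by group
  have hyi : y i = 1 := by rw [eq_of_fix h hx (hcom x hxP hxc), hy0]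
  have hyj : y j = 1 := by rw [← eq_of_fix h ht (hcom t htP htc), hyi]
  have hyk : ∀ k, k ≠ i → k ≠ j → k ≠ 0 → y k = 0 := by
    intro k hki hkj hk0
    by_contra hne
    have hyk : y k = 1 := ((show ∀ b : ZMod 2, b = 0 ∨ b = 1 by decide) (y k)).resolve_left hne
    obtain ⟨g, hgP, hg⟩ := hE.full (Equiv.swap k 0)
    have hsi : Equiv.swap k 0 i = i := Equiv.swap_apply_of_ne_of_ne hki.symm hi0
    have hsj : Equiv.swap k 0 j = j := Equiv.swap_apply_of_ne_of_ne hkj.symm hj0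
    have hgr : g * rr ε i j * g⁻¹ = rr ε i j := by rw [rr_conj hg, hsi, hsj]
    have hg0 : g * rr ε i 0 * g⁻¹ = rr ε i 0 * rr ε 0 k := by
      rw [rr_conj hg, hsi, Equiv.swap_apply_right, rr_add hE]
    have hgj0 : g * rr ε j 0 * g⁻¹ = rr ε j 0 * rr ε 0 k := by
      rw [rr_conj hg, hsj, Equiv.swap_apply_right, rr_add hE]
    have h0k : rr ε 0 k ∈ V ⊔ ZQ R o := mem_sup_right (hZQ _ (rr_mem_Vn ⟨hi0.symm, hj0.symm⟩ ⟨hki, hkj⟩))
    have hgN : g ∈ normalizer (R o : Set G) := by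
      refine mem_normalizer_iff.2 fun w => ?_
      rw [hR, hR]
      constructor
      · rintro (rfl | rfl)
        · left; group
        · right; exact hgr
      · rintro (hw | hw)
        · left
          calc w = g⁻¹ * (g * w * g⁻¹) * g := by group
            _ = 1 := by rw [hw]; group
        · right
          calc w = g⁻¹ * (g * w * g⁻¹) * g := by group
            _ = g⁻¹ * (g * rr ε i j * g⁻¹) * g := by rw [hw, hgr]
            _ = rr ε i j := by group
    have hgv : g * v * g⁻¹ = v := by rw [hvc g hgP, mul_inv_cancel_right]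
    have h1 := hs g hgN (fun w hw => ?_) (rr ε i 0) hV0 ?_
    · have e0 : rr ε i 0 * c = v * ε (Pi.single i 1 + Pi.single 0 1 + y) := by
        rw [hE.add, ← rr_eq hE, hc, ← hy]
        have h2 := hvc _ (h.A_le_P (rr_mem hE i 0))
        rw [← mul_assoc, h2, mul_assoc]
      have e2 : (Pi.single i 1 + Pi.single 0 1 + y : Fin (2 ^ m + 1) → ZMod 2) +
          (Pi.single i 1 + Pi.single 0 1 + y) ∘ (Equiv.swap k 0).symm = Pi.single k 1 + Pi.single 0 1 := by
        funext q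
        rw [Pi.add_apply, Function.comp_apply, Equiv.symm_swap]
        by_cases hq : q = k
        · subst hq
          rw [Equiv.swap_apply_left]
          simp [hki, hk0, hi0.symm, hyk, hy0, h11]
        · by_cases hq0 : q = 0
          · subst hq0
            rw [Equiv.swap_apply_right]
            simp [hki, hk0, hi0.symm, hyk, hy0, hk0.symm, h11]
          · rw [Equiv.swap_apply_of_ne_of_ne hq hq0, CharTwo.add_self_eq_zero]
            simp [hq, hq0]
      have e1 : (rr ε i 0 * c)⁻¹ * g * (rr ε i 0 * c) * g⁻¹ = rr ε k 0 := by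
        have e3 : rr ε k 0 = ε (Pi.single i 1 + Pi.single 0 1 + y) *
            (g * ε (Pi.single i 1 + Pi.single 0 1 + y) * g⁻¹) := by
          rw [hg, ← hE.add, e2, rr_eq hE]
        rw [e0, e3]
        have h3 : ∀ w : G, g * (v * w) * g⁻¹ = v * (g * w * g⁻¹) := fun w => by
          calc g * (v * w) * g⁻¹ = (g * v * g⁻¹) * (g * w * g⁻¹) := by group
            _ = _ := by rw [hgv]
        have hww := hE.inv (Pi.single i 1 + Pi.single 0 1 + y)
        generalize ε (Pi.single i 1 + Pi.single 0 1 + y) = w at hww ⊢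
        calc (v * w)⁻¹ * g * (v * w) * g⁻¹ = w⁻¹ * v⁻¹ * (g * (v * w) * g⁻¹) := by group
          _ = w⁻¹ * v⁻¹ * (v * (g * w * g⁻¹)) := by rw [h3]
          _ = w⁻¹ * (g * w * g⁻¹) := by group
          _ = w * (g * w * g⁻¹) := by rw [hww]
      rw [e1] at h1
      rcases (hR _).1 h1 with h2 | h2
      · exact rr_ne_one hE h.three hk0 h2
      · exact rr_ne hE h5 hk0 hki.symm hkj.symm h2
    · rcases hV w hw with rfl | rfl | rfl | rfl
      · rw [mul_one, mul_inv_cancel]; exact one_mem _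
      · rw [hgr]; exact mem_sup_left hw
      · rw [hg0]; exact mul_mem (mem_sup_left hw) h0k
      · rw [hgj0]; exact mul_mem (mem_sup_left hw) h0k
    · intro h2
      rcases (hR _).1 h2 with h3 | h3
      · exact rr_ne_one hE h.three hi0 h3
      · rw [rr_symm hE i 0] at h3
        exact rr_ne hE h5 hi0.symm hi0 hj0 h3
  refine ⟨v, hv, ?_⟩
  have e : y = Pi.single 0 1 + (Pi.single i 1 + Pi.single j 1) := by
    funext q
    by_cases h1 : q = i
    · subst h1
      simp [hyi, hi0, hij]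
    · by_cases h2 : q = j
      · subst h2
        simp [hyj, hj0, hij.symm]
      · by_cases h3 : q = 0
        · subst h3
          simp [hy0, hi0.symm, hj0.symm]
        · simp [hyk q h1 h2 h3, h1, h2, h3]
  rw [hc, ← hy, e, hE.add, ← rr_eq hE]
  rw [mul_assoc]
  rfl

/-- **the `Y`-step** -/
theorem yv (hm : 3 ≤ m) {i j : Fin (2 ^ m + 1)} {v : G} (hv : v ∈ cv (S : Subgroup G) P) {V : Subgroup G}
    (hV : V ≤ zl (S : Subgroup G) P) : HT.Main.YV V (rr ε i j) (v * zz ε 0 * rr ε i j) := by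
  have hE := h.split.even
  intro g hg w hw
  have e : v * zz ε 0 * rr ε i j * rr ε i j = v * zz ε 0 := by
    rw [mul_assoc, rr_sq hE, mul_one]
  rw [e] at hg
  have hgC : g ∈ centralizer ({v * zz ε 0} : Set G) := mem_centralizer_singleton_iff.2 hg
  obtain ⟨h1, h2⟩ := h.cen_pt hm hv 0
  have hrV : rr ε i j ∈ zl (S : Subgroup G) P := h.split.A_le (rr_mem hE i j)
  have h3 : g⁻¹ * w * g ∈ o2 (centralizer ({v * zz ε 0} : Set G)) := by
    have := (mem_normalizer_iff.mp (MinSimple.VModule.le_normalizer_o2 _ (inv_mem hgC)) w).mp (h1 (hV hw))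
    rwa [inv_inv] at this
  have h4 := mem_centralizer_iff.1 (h2 h3) _ hrV
  calc w * (g * rr ε i j * g⁻¹) = g * ((g⁻¹ * w * g) * rr ε i j) * g⁻¹ := by group
    _ = g * (rr ε i j * (g⁻¹ * w * g)) * g⁻¹ := by rw [h4]
    _ = _ := by group

end Cfsg.Agent.Omega.F4Leaf.TSyl.Sg
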