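import Cfsg.Agent.Omega.F4Leaf.TSyl.Frame
import Cfsg.Agent.Omega.F4Leaf.TSyl.Sig
import Cfsg.Agent.Omega.F4Leaf.Syl.OtT
import Cfsg.Agent.Omega.F4Leaf.Syl.LEBT
import Cfsg.Agent.Omega.HT.Dt

/-!
# LeafF4, `m ≥ 3`, MemH2, pure case, `n = r_ij` not 2-central (bb OMEGA #21478, piece D)

Over `Fr S P m A ε i j T` (`T` Sylow in `C_G(n)`, `C_S(n) ≤ T ≤ N(V_l)`, partner):

* `Fr.otln` : the structure `OtT.Ln`; `Fr.le` : LE or (H2); `Fr.sig` : `Sig V_l R 0 c` implies `c n = v z_0`;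
* `Fr.two` : two different elements of `Z₀#`, if `n` is not 2-central and `|Ω₁Z(S)| ≥ 4`;
* `Fr.h2` : (H2).
-/

set_option autoImplicit false
set_option linter.dupNamespace false

namespace Cfsg.Agent.Omega.F4Leaf.TSyl

open Subgroup Pointwise Cfsg Cfsg.Agent Cfsg.Agent.Omega.MinPar
open Cfsg.Agent.ZN (o2 zc zl)
open Cfsg.Agent.Omega.FrameFF (cv)
open Cfsg.Agent.Omega.S5.Def Cfsg.Agent.Omega.S5.Syl Cfsg.Agent.Omega.F4Leaf.Def
open Cfsg.Agent.Omega.S5.SymBig (H2)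
open Cfsg.Agent.Omega.F4Leaf.Pos Cfsg.Agent.Omega.F4Leaf.Facts
open Cfsg.Agent.Omega.NSix.Base Cfsg.Agent.Omega.NSix.Basic Cfsg.Agent.Omega.NSix.FixApp
open Cfsg.Agent.Omega.NSix.RThree (acts_swap')
open Cfsg.Agent.Omega.NSix.Zero (WP mem_WP WP_norm WP_conj)
open Cfsg.Agent.Omega.HT.LineOf (Ln ln pts dd)
open Cfsg.Agent.Omega.BTwo (BT BTS XX CenX QQ)
open Cfsg.Agent.Omega.F4Leaf.Syl
open Cfsg.Agent.Omega.HTwo.ThmA (LE)
open Cfsg.Agent.Omega.HTwo.Hat (ZQ)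
open Cfsg.Agent.MinSimple.VModule (o2_isPGroup o2_le le_o2 le_normalizer_o2 o2_le_of_sylow mem_zc zc_le
  le_normalizer_zl zl_comm zl_sq)

universe u

variable {G : Type u} [Group G] [Finite G] {S : Sylow 2 G} {P : Subgroup G} {m : ℕ} {A : Subgroup G}
  {ε : (Fin (2 ^ m + 1) → ZMod 2) → G} {i j : Fin (2 ^ m + 1)} {T : Subgroup G}

section sit

variable (h : Sit S P m A ε) (hij : i ≠ j) (hi : i ≠ 0) (hj : j ≠ 0)
include h

/-- `v ε x` (`v ∈ V₀`) with `x i = x j = x 0` is centralised by `X` -/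
theorem mem_CenX {v : G} (hv : v ∈ cv (S : Subgroup G) P) {x : Fin (2 ^ m + 1) → ZMod 2} (h1 : x i = x j)
    (h2 : x i = x 0) (hP : Part A ε i j) :
    v * ε x ∈ CenX (ln (line h hij hi hj)) (pts (rr ε i j) (rr ε i 0)) := by
  have b := bt h hij hi hj hP
  rw [mem_centralizer_iff]
  intro g hg
  have hle : XX (ln (line h hij hi hj)) (pts (rr ε i j) (rr ε i 0)) ≤ centralizer ({v * ε x} : Set G) := by
    refine iSup_le fun s w hw => ?_
    obtain ⟨a, c, -, hac, -, -, e, -, ha, hc⟩ := dd_cases h hij hi hj s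
    have h3 : w ∈ o2 (NN ε a c) := by
      have h3 := b.W_le_Q s hw
      change w ∈ o2 (normalizer (pts (rr ε i j) (rr ε i 0) s : Set G)) at h3
      rw [(line h hij hi hj).normalizer_pts s, e] at h3
      exact h3
    have hval : ∀ d, (d = i ∨ d = j ∨ d = 0) → x d = x i := by
      rintro d (rfl | rfl | rfl)
      · rfl
      · exact h1.symm
      · exact h2.symm
    have h4 := comm_Q h hac (x := x) (by rw [hval a ha, hval c hc]) h3
    have h5 := h.comm_V0 hac h3 hv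
    rw [mem_centralizer_singleton_iff, ← mul_assoc, h5, mul_assoc, h4, mul_assoc]
  exact mem_centralizer_singleton_iff.1 (hle hg)

/-- the elements of `V_P` centralised by an element acting as `(i j)` -/
theorem dec (hP : Part A ε i j) {z : G} (hz : z ∈ zl (S : Subgroup G) P) {w : G} (hwP : w ∈ P)
    (hw : Acts ε w (Equiv.swap i j)) (hwz : w * z = z * w) :
    z ∈ CenX (ln (line h hij hi hj)) (pts (rr ε i j) (rr ε i 0)) ∨
      z * rr ε i j ∈ CenX (ln (line h hij hi hj)) (pts (rr ε i j) (rr ε i 0)) := by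
  have hE := h.split.even
  obtain ⟨v, hv, a, ha, rfl⟩ := h.mul_eq hz
  obtain ⟨x, rfl⟩ := hE.surj a ha
  have hvw := h.V0_comm hv hwP
  have h1 : w * ε x = ε x * w := by
    apply mul_left_cancel (a := v)
    calc v * (w * ε x) = w * (v * ε x) := by rw [← mul_assoc, ← hvw, mul_assoc]
      _ = v * ε x * w := hwz
      _ = v * (ε x * w) := mul_assoc _ _ _
  have hxx := Sg.eq_of_fix h hw h1
  have hz2 : ∀ a b : ZMod 2, a ≠ b → a + 1 = b := by decide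
  by_cases h2 : x i = x 0
  · left
    exact mem_CenX h hij hi hj hv hxx h2 hP
  · right
    have e : v * ε x * rr ε i j = v * ε (x + (Pi.single i 1 + Pi.single j 1)) := by
      rw [hE.add, hE.add, mul_assoc]
      rfl
    rw [e]
    refine mem_CenX h hij hi hj hv ?_ ?_ hP
    · simp only [Pi.add_apply, Pi.single_eq_same, Pi.single_eq_of_ne hij, Pi.single_eq_of_ne hij.symm, add_zero,
        zero_add, hxx]
    · simp only [Pi.add_apply, Pi.single_eq_same, Pi.single_eq_of_ne hij, Pi.single_eq_of_ne hi.symm,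
        Pi.single_eq_of_ne hj.symm, add_zero]
      exact hz2 _ _ h2

end sit

namespace Fr

variable (b : Fr S P m A ε i j T)
include b

theorem o2_le_T : o2 P ≤ T := by
  intro x hx
  refine b.le ⟨b.sit.o2_le_S hx, mem_NN.2 ?_⟩
  exact (mem_zc.1 (b.sit.V_le_zc (b.sit.split.A_le (rr_mem b.sit.split.even i j)))).2.1 x hx

/-- the data of `OtT` -/
theorem otln : OtT.Ln S P A ε i j T (ln (line b.sit b.ij b.i0 b.j0)) (pts (rr ε i j) (rr ε i 0)) 0 where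
  sit := b.sit
  mv := b.mov
  ne := b.ij
  bt := bt b.sit b.ij b.i0 b.j0 b.part
  hr _ := (line b.sit b.ij b.i0 b.j0).mem_pts
  pair := by
    rintro v (rfl | ⟨s, rfl⟩) h1
    · exact absurd rfl h1
    · obtain ⟨a, c, -, hac, -, -, e, -⟩ := dd_cases b.sit b.ij b.i0 b.j0 s
      exact ⟨a, c, hac, e⟩
  k := ⟨0, b.i0.symm, b.j0.symm, (line b.sit b.ij b.i0 b.j0).dd_mem 1⟩
  T_p := b.p
  T_N := b.leN
  odd := b.odd
  T_V := b.nrm
  Q_T := b.o2_le_T

/-- **LE or (H2)** -/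
theorem hLE : H2 ε ∨ ∀ l, LE (ln (line b.sit b.ij b.i0 b.j0)) (pts (rr ε i j) (rr ε i 0)) l := by
  have hL := line b.sit b.ij b.i0 b.j0
  refine LEone.le_frame (o := 0) (a1 := 0) (a2 := 1) (a3 := 2) b.sit b.otln.htt.toBTS ?_ b.ij b.i0.symm b.j0.symm
    (hL.dd_mem 0) (hL.dd_mem 1) ?_ ?_ ?_ ?_ ?_ ?_
  · obtain ⟨k, hk, v, hv, w, hw, hne⟩ := b.part
    refine ⟨i, j, b.ij, k * w * k⁻¹, subset_closure ⟨k, hk, w, hw, rfl⟩, fun h1 => hne ?_⟩
    exact mem_centralizer_iff.1 h1 v hv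
  · have := hL.dd_mem 2
    rwa [show dd (rr ε i j) (rr ε i 0) 2 = rr ε j 0 from dd_two b.sit i j] at this
  · exact fun x hx => hL.mem_pts.1 hx
  · exact mem_zpowers _
  · rw [hL.normalizer_pts 0]
    exact le_rfl
  · rw [hL.normalizer_pts 1]
    exact le_rfl
  · rw [hL.normalizer_pts 2, show dd (rr ε i j) (rr ε i 0) 2 = rr ε j 0 from dd_two b.sit i j]
    exact le_rfl

/-- `c n = v z_0` if `Sig V_l R 0 c` -/
theorem sig {c : G} (hc : c ∈ zc T) (hcX : c ∈ CenX (ln (line b.sit b.ij b.i0 b.j0)) (pts (rr ε i j) (rr ε i 0)))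
    (hs : HT.Sig (ln (line b.sit b.ij b.i0 b.j0)) (pts (rr ε i j) (rr ε i 0)) 0 c) :
    ∃ v ∈ cv (S : Subgroup G) P, ∃ k, c * rr ε i j = v * zz ε k := by
  have hL := line b.sit b.ij b.i0 b.j0
  have hE := b.sit.split.even
  obtain ⟨w, hwQ, hw⟩ := b.otln.exists_w
  obtain ⟨k, hk, hkA⟩ := part_pt b.sit b.ij b.part b.i0 b.ij b.j0.symm
  have hN1 : NN ε i 0 = normalizer (pts (rr ε i j) (rr ε i 0) 1 : Set G) := (hL.normalizer_pts 1).symm
  have hxX : k * rr ε i j * k⁻¹ ∈ XX (ln hL) (pts (rr ε i j) (rr ε i 0)) := by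
    refine BTwo.W_le_X _ _ 1 ?_
    have h1 : BTwo.cj k (ln hL) ≤ BTwo.WW (ln hL) (pts (rr ε i j) (rr ε i 0) 1) :=
      BTwo.cj_le_WW (by rw [← hN1]; exact hk)
    exact h1 (BTwo.conj_mem_cj (hL.dd_mem 0))
  have hxP : k * rr ε i j * k⁻¹ ∈ P := b.sit.o2_le_P b.i0
    ((mem_normalizer_iff.1 (le_normalizer_o2 _ hk) _).1 (b.sit.V_le b.i0 (b.sit.split.A_le (rr_mem hE i j))))
  obtain ⟨v, hv, h1⟩ := Sg.sig b.sit b.ij b.i0 b.j0 (fun x => hL.mem_pts) (hL.dd_mem 1) (by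
      rintro v (rfl | ⟨s, rfl⟩)
      · exact Or.inl rfl
      · fin_cases s
        · exact Or.inr (Or.inl rfl)
        · exact Or.inr (Or.inr (Or.inl rfl))
        · exact Or.inr (Or.inr (Or.inr (dd_two b.sit i j)))) (by
      intro v hv
      have h2 := b.sit.vn_cen b.ij hv
      change v ∈ o2 (normalizer (pts (rr ε i j) (rr ε i 0) 0 : Set G)) ⊓
        centralizer (o2 (normalizer (pts (rr ε i j) (rr ε i 0) 0 : Set G)) : Set G)
      rw [hL.normalizer_pts 0]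
      exact ⟨h2.1, mem_centralizer_iff.2 fun x hx => (h2.2 x hx).symm⟩)
    (b.otln.zc_le_zl hc) (b.sit.o2_le_P b.ij hwQ) hw ((mem_zc.1 hc).2.1 w (b.otln.Qn_T hwQ)) hxP hkA
    (mem_centralizer_iff.1 hcX _ hxX) hs
  refine ⟨v, hv, 0, ?_⟩
  rw [h1, mul_assoc, rr_sq hE, mul_one]

/-- **two different elements of `Z₀#`** -/
theorem two (hcv : cv (S : Subgroup G) P ≠ ⊥) (hn : ¬ ∃ T₀ : Sylow 2 G, (T₀ : Subgroup G) ≤ centralizer {rr ε i j}) :
    ∃ x ∈ zc T, ∃ y ∈ zc T, x ∈ CenX (ln (line b.sit b.ij b.i0 b.j0)) (pts (rr ε i j) (rr ε i 0)) ∧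
      y ∈ CenX (ln (line b.sit b.ij b.i0 b.j0)) (pts (rr ε i j) (rr ε i 0)) ∧ x ≠ 1 ∧ y ≠ 1 ∧ x ≠ y := by
  have hE := b.sit.split.even
  obtain ⟨S₁, hS₁⟩ := b.p.exists_le_sylow
  have hr : rr ε i j ∈ zc T := by
    refine mem_zc.2 ⟨b.otln.V_le_T ((line b.sit b.ij b.i0 b.j0).dd_mem 0), fun t ht => b.otln.T_r ht, ?_⟩
    rw [pow_two]; exact rr_sq hE i j
  have hrn : rr ε i j ∉ zc (S₁ : Subgroup G) := fun h1 => hn ⟨S₁, fun x hx => by
    rw [mem_centralizer_singleton_iff]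
    exact (mem_zc.1 h1).2.1 x hx⟩
  have hle : zc (S₁ : Subgroup G) ≤ zc T := by
    intro z hz
    obtain ⟨h1, h2, h3⟩ := mem_zc.1 hz
    have h4 : z ∈ o2 P := b.sit.mem_o2_of_cent fun q hq => (h2 q (hS₁ (b.o2_le_T hq))).symm
    exact mem_zc.2 ⟨b.o2_le_T h4, fun t ht => h2 t (hS₁ ht), h3⟩
  obtain ⟨w, hwQ, hw⟩ := b.otln.exists_w
  have hwP := b.sit.o2_le_P b.ij hwQ
  -- the projection to `Z₀`
  have key : ∀ z ∈ zc (S₁ : Subgroup G), z ≠ 1 → ∃ c ∈ zc T,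
      c ∈ CenX (ln (line b.sit b.ij b.i0 b.j0)) (pts (rr ε i j) (rr ε i 0)) ∧ c ≠ 1 ∧ (c = z ∨ c = z * rr ε i j) := by
    intro z hz hz1
    have h1 := hle hz
    rcases dec b.sit b.ij b.i0 b.j0 b.part (b.otln.zc_le_zl h1) hwP hw ((mem_zc.1 h1).2.1 w (b.otln.Qn_T hwQ))
      with h2 | h2
    · exact ⟨z, h1, h2, hz1, Or.inl rfl⟩
    · refine ⟨z * rr ε i j, mul_mem h1 hr, h2, fun h3 => hrn ?_, Or.inr rfl⟩
      rw [← inv_eq_of_mul_eq_one_right h3]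
      exact inv_mem hz
  -- `|Ω₁Z(S₁)| ≥ 4`
  have hcard : 4 ≤ Nat.card (zc (S₁ : Subgroup G)) := by
    have h1 := b.sit.split.card_zc b.sit.c2 b.sit.par (by have := b.m3; omega)
    have h2 : 2 ≤ Nat.card (cv (S : Subgroup G) P) := by
      have h3 : Nat.card (cv (S : Subgroup G) P) ≠ 1 := fun h4 => hcv (Subgroup.card_eq_one.1 h4)
      have h4 : 0 < Nat.card (cv (S : Subgroup G) P) := Nat.card_pos
      omega
    obtain ⟨g, hg⟩ : ∃ g : G, g • S = S₁ := MulAction.exists_smul_eq G S S₁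
    have h5 : Nat.card (zc (S₁ : Subgroup G)) = Nat.card (zc (S : Subgroup G)) := by
      rw [← hg, NSix.NoTk.coe_smul]
      have h6 : zc (ZN.ChoiceBase.cj g (S : Subgroup G)) = ZN.ChoiceBase.cj g (zc (S : Subgroup G)) :=
        ZN.zc_map (MulAut.conj g).toMonoidHom (MulAut.conj g).injective _
      rw [h6]
      exact ZN.ChoiceBase.card_cj g _
    omega
  obtain ⟨x, y, hx, hy, hx1, hy1, hxy⟩ : ∃ x y : G, x ∈ zc (S₁ : Subgroup G) ∧ y ∈ zc (S₁ : Subgroup G) ∧ x ≠ 1 ∧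
      y ≠ 1 ∧ x ≠ y := by
    obtain ⟨x, hx, hx1⟩ : ∃ x ∈ zc (S₁ : Subgroup G), x ≠ 1 := by
      by_contra h1
      push Not at h1
      have h2 : zc (S₁ : Subgroup G) = ⊥ := (eq_bot_iff_forall _).2 h1
      rw [h2, Subgroup.card_bot] at hcard
      omega
    by_contra h1
    push Not at h1
    have h2 : zc (S₁ : Subgroup G) ≤ zpowers x := by
      intro y hy
      by_cases hy1 : y = 1
      · rw [hy1]; exact one_mem _
      · rw [← h1 x y hx hy hx1 hy1]; exact mem_zpowers x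
    have h3 : x * x = 1 := by rw [← pow_two]; exact (mem_zc.1 hx).2.2
    have h4 := Nat.le_of_dvd Nat.card_pos (card_dvd_of_le h2)
    rw [HT.LineOf.card_zp h3 hx1] at h4
    omega
  obtain ⟨c, hc, hcX, hc1, hcx⟩ := key x hx hx1
  obtain ⟨d, hd, hdX, hd1, hdy⟩ := key y hy hy1
  refine ⟨c, hc, d, hd, hcX, hdX, hc1, hd1, fun hcd => ?_⟩
  have hxy2 : x * y⁻¹ ∈ zc (S₁ : Subgroup G) := mul_mem hx (inv_mem hy)
  have hcomm : ∀ {u : G}, u ∈ zc (S₁ : Subgroup G) → rr ε i j * u = u * rr ε i j := fun {u} hu =>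
    ((mem_zc.1 hr).2.1 u (zc_le _ (hle hu))).symm
  rcases hcx with e1 | e1 <;> rcases hdy with e2 | e2
  · exact hxy (e1.symm.trans (hcd.trans e2))
  · apply hrn
    have h3 : rr ε i j = y⁻¹ * x := by rw [← e1, hcd, e2]; group
    rw [h3]
    exact mul_mem (inv_mem hy) hx
  · apply hrn
    have h3 : rr ε i j = x⁻¹ * y := by rw [← e2, ← hcd, e1]; group
    rw [h3]
    exact mul_mem (inv_mem hx) hy
  · apply hxy
    have h3 : x * rr ε i j = y * rr ε i j := by rw [← e1, hcd, e2]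
    exact mul_right_cancel h3

/-- **(H2), pure case, `n` not 2-central** -/
theorem h2 (hcv : cv (S : Subgroup G) P ≠ ⊥)
    (hn : ¬ ∃ T₀ : Sylow 2 G, (T₀ : Subgroup G) ≤ centralizer {rr ε i j}) : H2 ε := by
  rcases b.hLE with h1 | h1
  · exact h1
  exfalso
  obtain ⟨x, hx, y, hy, hxX, hyX, hx1, hy1, hxy⟩ := b.two hcv hn
  exact hxy (b.otln.main b.m3 h1 (fun c hc hcX hs => b.sig hc hcX hs) x hx hxX y hy hyX hx1 hy1)

end Fr

end Cfsg.Agent.Omega.F4Leaf.TSyl
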